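import Mathlib

/-!
# Reciprocal polynomials over finite fields of characteristic two
-/

set_option autoImplicit false
set_option linter.unusedSectionVars false
set_option linter.unusedVariables false
set_option linter.unusedSimpArgs false

namespace Cfsg.Agent.Lib.Spec8.Poly

open Polynomial

variable {F : Type*} [Field F]

/-- The monic reciprocal polynomial. -/
noncomputable def rho (f : F[X]) : F[X] := C (f.coeff 0)⁻¹ * f.reverse

theorem natTrailingDegree_eq_zero' {f : F[X]} (hf : f.coeff 0 ≠ 0) : f.natTrailingDegree = 0 :=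
  Polynomial.natTrailingDegree_eq_zero.2 (Or.inr hf)

theorem trailingCoeff_eq {f : F[X]} (hf : f.coeff 0 ≠ 0) : f.trailingCoeff = f.coeff 0 := by
  rw [Polynomial.trailingCoeff, natTrailingDegree_eq_zero' hf]

theorem natDegree_reverse_eq {f : F[X]} (hf : f.coeff 0 ≠ 0) : f.reverse.natDegree = f.natDegree := by
  rw [reverse_natDegree, natTrailingDegree_eq_zero' hf, Nat.sub_zero]

theorem coeff_zero_reverse_monic {f : F[X]} (hf : f.Monic) : f.reverse.coeff 0 = 1 := by
  rw [coeff_zero_reverse, hf.leadingCoeff]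

theorem rho_monic {f : F[X]} (hf : f.coeff 0 ≠ 0) : (rho f).Monic := by
  have h0 : f.reverse.leadingCoeff = f.coeff 0 := by
    rw [reverse_leadingCoeff, trailingCoeff_eq hf]
  rw [rho, Monic, leadingCoeff_mul, leadingCoeff_C, h0, inv_mul_cancel₀ hf]

theorem natDegree_rho {f : F[X]} (hf : f.coeff 0 ≠ 0) : (rho f).natDegree = f.natDegree := by
  rw [rho, natDegree_C_mul (inv_ne_zero hf), natDegree_reverse_eq hf]

theorem coeff_zero_rho {f : F[X]} (hf : f.Monic) : (rho f).coeff 0 = (f.coeff 0)⁻¹ := by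
  rw [rho, coeff_C_mul, coeff_zero_reverse_monic hf, mul_one]

theorem reverse_reverse_eq {f : F[X]} (hf : f.coeff 0 ≠ 0) : f.reverse.reverse = f := by
  ext n
  rw [coeff_reverse, coeff_reverse, natDegree_reverse_eq hf, revAt_invol]

theorem reverse_C_mul (c : F) (f : F[X]) : (C c * f).reverse = C c * f.reverse := by
  rw [reverse_mul_of_domain, reverse_C]

theorem rho_rho {f : F[X]} (hf : f.Monic) (h0 : f.coeff 0 ≠ 0) : rho (rho f) = f := by
  rw [rho, coeff_zero_rho hf, inv_inv]
  conv_lhs => rw [rho, reverse_C_mul, reverse_reverse_eq h0]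
  rw [← mul_assoc, ← C_mul, mul_inv_cancel₀ h0, C_1, one_mul]

theorem rho_mul (f g : F[X]) (hf : f.coeff 0 ≠ 0) (hg : g.coeff 0 ≠ 0) : rho (f * g) = rho f * rho g := by
  have h : (f * g).coeff 0 = f.coeff 0 * g.coeff 0 := mul_coeff_zero f g
  rw [rho, rho, rho, h, reverse_mul_of_domain, mul_inv, C_mul]
  ring

theorem irreducible_rho {f : F[X]} (hf : Irreducible f) (h0 : f.coeff 0 ≠ 0) : Irreducible (rho f) := by
  have hne : f.reverse.coeff 0 ≠ 0 := by
    rw [coeff_zero_reverse]
    exact leadingCoeff_ne_zero.2 hf.ne_zero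
  have hr : Irreducible f.reverse := by
    refine ⟨fun hu => ?_, fun a b hab => ?_⟩
    · have h1 : f.reverse.natDegree = 0 := natDegree_eq_zero_of_isUnit hu
      rw [natDegree_reverse_eq h0] at h1
      exact hf.not_isUnit (by
        rw [Polynomial.isUnit_iff_degree_eq_zero, degree_eq_natDegree hf.ne_zero, h1]
        rfl)
    · have ha0 : a.coeff 0 ≠ 0 := by
        intro h
        apply hne
        rw [hab, mul_coeff_zero, h, zero_mul]
      have hb0 : b.coeff 0 ≠ 0 := by
        intro h
        apply hne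
        rw [hab, mul_coeff_zero, h, mul_zero]
      have h1 : f = a.reverse * b.reverse := by
        rw [← reverse_mul_of_domain, ← hab, reverse_reverse_eq h0]
      rcases hf.isUnit_or_isUnit h1 with h | h
      · left
        have h2 : a.reverse.natDegree = 0 := natDegree_eq_zero_of_isUnit h
        rw [natDegree_reverse_eq ha0] at h2
        have ha : a ≠ 0 := by
          rintro rfl
          simp at ha0
        rw [Polynomial.isUnit_iff_degree_eq_zero, degree_eq_natDegree ha, h2]
        rfl
      · right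
        have h2 : b.reverse.natDegree = 0 := natDegree_eq_zero_of_isUnit h
        rw [natDegree_reverse_eq hb0] at h2
        have hb : b ≠ 0 := by
          rintro rfl
          simp at hb0
        rw [Polynomial.isUnit_iff_degree_eq_zero, degree_eq_natDegree hb, h2]
        rfl
  rw [rho]
  exact (irreducible_isUnit_mul (Polynomial.isUnit_C.2 (isUnit_iff_ne_zero.2 (inv_ne_zero h0)))).2 hr

/-- Self-reciprocal monic polynomials. -/
structure SR (χ : F[X]) : Prop where
  rev : χ.reverse = χ
  monic : χ.Monic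

theorem SR.coeff_zero {χ : F[X]} (h : SR χ) : χ.coeff 0 = 1 := by
  have := coeff_zero_reverse χ
  rw [h.rev, h.monic.leadingCoeff] at this
  exact this

theorem SR.coeff_zero_ne {χ : F[X]} (h : SR χ) : χ.coeff 0 ≠ 0 := by
  rw [h.coeff_zero]
  exact one_ne_zero

theorem rho_eq_of_SR {χ : F[X]} (h : SR χ) : rho χ = χ := by
  rw [rho, h.coeff_zero, inv_one, C_1, one_mul, h.rev]

theorem rho_dvd_of_dvd {f χ : F[X]} (hχ : SR χ) (hf : f ∣ χ) : rho f ∣ χ := by
  obtain ⟨g, hg⟩ := hf
  have h0 : χ.coeff 0 ≠ 0 := hχ.coeff_zero_ne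
  have hf0 : f.coeff 0 ≠ 0 := by
    intro h
    apply h0
    rw [hg, mul_coeff_zero, h, zero_mul]
  have hg0 : g.coeff 0 ≠ 0 := by
    intro h
    apply h0
    rw [hg, mul_coeff_zero, h, mul_zero]
  refine ⟨rho g, ?_⟩
  rw [← rho_mul f g hf0 hg0, ← hg, rho_eq_of_SR hχ]

/-- A left factor being self-reciprocal gives a self-reciprocal cofactor. -/
theorem SR.of_mul {A B : F[X]} (hA : SR A) (hAB : SR (A * B)) : SR B := by
  have hm : B.Monic := by
    have := hAB.monic
    exact (Monic.of_mul_monic_left hA.monic this)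
  refine ⟨?_, hm⟩
  have h1 := hAB.rev
  rw [reverse_mul_of_domain, hA.rev] at h1
  exact mul_left_cancel₀ hA.monic.ne_zero h1

theorem sr_mul_rho {f : F[X]} (hf : f.Monic) (h0 : f.coeff 0 ≠ 0) : SR (f * rho f) := by
  refine ⟨?_, hf.mul (rho_monic h0)⟩
  rw [reverse_mul_of_domain, rho, reverse_C_mul, reverse_reverse_eq h0]
  ring

section char2

variable [CharP F 2]

theorem inv_eq_one_of_sq {c : F} (h : c * c = 1) : c = 1 := by
  have h2 : (c - 1) * (c - 1) = 0 := by
    have h3 : (c - 1) * (c - 1) = c * c - 2 * c + 1 := by ring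
    rw [h3, h, CharTwo.two_eq_zero]
    ring_nf
    rw [CharTwo.two_eq_zero]
  have := mul_self_eq_zero.1 h2
  exact sub_eq_zero.1 this

theorem sr_of_rho_eq {f : F[X]} (hf : f.Monic) (h0 : f.coeff 0 ≠ 0) (h : rho f = f) : SR f := by
  have h1 : f.coeff 0 * f.coeff 0 = 1 := by
    have h2 := coeff_zero_rho hf
    rw [h] at h2
    have h3 : f.coeff 0 * (f.coeff 0)⁻¹ = 1 := mul_inv_cancel₀ h0
    rw [← h2] at h3
    exact h3
  have hc := inv_eq_one_of_sq h1
  refine ⟨?_, hf⟩
  rw [rho, hc, inv_one, C_1, one_mul] at h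
  exact h

/-- A self-reciprocal polynomial of odd degree vanishes at one. -/
theorem SR.eval_one_eq_zero {χ : F[X]} (h : SR χ) (hodd : Odd χ.natDegree) : χ.eval 1 = 0 := by
  rw [eval_eq_sum_range]
  simp only [one_pow, mul_one]
  set n := χ.natDegree with hn
  have hsym : ∀ i ≤ n, χ.coeff (n - i) = χ.coeff i := by
    intro i hi
    conv_rhs => rw [← h.rev]
    rw [coeff_reverse, revAt_le (by omega)]
  refine Finset.sum_involution (fun i _ => n - i) ?_ ?_ ?_ ?_
  · intro i hi
    rw [Finset.mem_range] at hi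
    rw [hsym i (by omega), CharTwo.add_self_eq_zero]
  · intro i hi _ hc
    rw [Finset.mem_range] at hi
    obtain ⟨k, hk⟩ := hodd
    omega
  · intro i hi
    rw [Finset.mem_range] at hi ⊢
    omega
  · intro i hi
    rw [Finset.mem_range] at hi
    omega

end char2

end Cfsg.Agent.Lib.Spec8.Poly
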